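import Groth.Agent.RefNumLib.Group
import Groth.Agent.RefNumLib.Main
import Groth.Agent.DetModLib.Main
import Groth.Agent.AmpleAffLib.Gen
import Groth.Agent.ResPropLib.Ample

/-!
# Additive functions of coherent modules through the divisor of the determinant
-/

set_option autoImplicit false
set_option linter.style.haveILetI false
set_option linter.unusedSectionVars false
universe u v

open CategoryTheory CategoryTheory.Limits AlgebraicGeometry TopologicalSpace Opposite DevissLib

noncomputable section

namespace RefDetNumLib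

open RefHullLib (specializes_generic mem_of_nonempty)
open Ref1Lib (spec spec_germ spec_smul spec_map FreeGen HasDiv)
open RefNumLib

variable {X : Scheme.{u}}

theorem stalk_total {m : ℕ} (P : Fin m → X.Modules) (x : X) (v : (⨁ P).presheaf.stalk x) :
    v = ∑ j, RefHull.stalkMapₗ (biproduct.ι P j) x (RefHull.stalkMapₗ (biproduct.π P j) x v) := by
  have h := congrArg (fun f => f.hom v) ((DerSch.stalkFunctor X x).congr_map (biproduct.total (f := P)))
  rw [(DerSch.stalkFunctor X x).map_id] at h
  rw [Functor.map_sum, ModuleCat.hom_sum, LinearMap.sum_apply] at h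
  refine h.symm.trans (Finset.sum_congr rfl fun j _ => ?_)
  rw [Functor.map_comp]
  rfl

theorem isCoh_biproduct [IsLocallyNoetherian X] : ∀ {m : ℕ} (P : Fin m → X.Modules),
    (∀ i, Coh.IsCoh (P i)) → Coh.IsCoh (⨁ P)
  | 0, P, _ => DevissLib.isCoh_of_isZero ((IsZero.iff_id_eq_zero _).2 (biproduct.hom_ext _ _ fun i => i.elim0))
  | m + 1, P, h => QCohLib.isCoh_of_iso (ResPropLib.biproductSuccIso P).symm
      (DevissLib.isCoh_biprod (h 0) (isCoh_biproduct (fun i : Fin m => P i.succ) fun i => h i.succ))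

variable [IsIntegral X]

/-- The stalks at points of codimension one embed in the generic stalk. -/
def TF (F : X.Modules) : Prop := ∀ x : X, Order.coheight x = 1 → Function.Injective (spec F x)

/-- The determinants of lattice bases have the orders given by `-D`. -/
def HasDet [IsLocallyNoetherian X] {r : ℕ} (F : X.Modules)
    (B : Module.Basis (Fin r) (X.presheaf.stalk (genericPoint X)) (F.presheaf.stalk (genericPoint X)))
    (D : X → ℤ) : Prop :=
  ∀ x : X, Order.coheight x = 1 → ∃ m : Fin r → F.presheaf.stalk x,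
    B.det (fun j => spec F x (m j)) ≠ 0 ∧
    (∀ v : F.presheaf.stalk x, ∃ c : Fin r → X.presheaf.stalk x,
      spec F x v = ∑ i, algebraMap _ X.functionField (c i) • spec F x (m i)) ∧
    D x = -Scheme.ord (X := X) (B.det (fun j => spec F x (m j))) x

theorem finite_codim_one [IsNoetherian X] {C : Set X} (hC : IsClosed C) (hη : genericPoint X ∉ C) :
    {x : X | Order.coheight x = 1 ∧ x ∈ C}.Finite := by
  obtain ⟨S, hSf, hScl, hSirr, hSC⟩ := NoetherianSpace.exists_finite_set_isClosed_irreducible hC
  classical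
  have hg : ∀ s ∈ S, ∃ g : X, closure {g} = s := fun s hs => by
    obtain ⟨g, hg⟩ := QuasiSober.sober (hSirr s hs) (hScl s hs)
    exact ⟨g, hg⟩
  choose g hg using hg
  refine ((Finset.univ : Finset hSf.toFinset).image fun s => g s.1 (hSf.mem_toFinset.1 s.2)).finite_toSet.subset ?_
  rintro x ⟨hx, hxC⟩
  rw [hSC] at hxC
  obtain ⟨s, hs, hxs⟩ := Set.mem_sUnion.1 hxC
  refine Finset.mem_image.2 ⟨⟨s, hSf.mem_toFinset.2 hs⟩, Finset.mem_univ _, ?_⟩
  show g s hs = x
  rw [← hg s hs] at hxs
  have hgC : g s hs ∈ C := by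
    rw [hSC]
    exact Set.mem_sUnion.2 ⟨s, hs, (hg s hs).le (subset_closure rfl)⟩
  have hgx : g s hs ⤳ x := specializes_iff_mem_closure.2 hxs
  by_contra hne
  have h1 : x < g s hs := lt_iff_le_not_ge.2 ⟨hgx, fun h => hne (Specializes.antisymm hgx h).eq⟩
  have h2 : g s hs < genericPoint X := lt_iff_le_not_ge.2
    ⟨specializes_generic _, fun h => hη ((Specializes.antisymm h (specializes_generic _)).eq ▸ hgC)⟩
  have h3 := Order.coheight_add_one_le h1
  have h4 := Order.coheight_add_one_le h2
  rw [hx] at h3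
  have h5 : (1 : ℕ∞) + 1 ≤ 1 := le_trans (by gcongr; exact le_trans le_add_self h4) h3
  exact absurd h5 (not_le.2 (by decide))

variable (k : Type u) [Field k] [X.Over (Spec (CommRingCat.of k))]
  [IsProper (X ↘ Spec (CommRingCat.of k))] [IsLocallyNoetherian X]
  {A : Type v} [AddCommGroup A] {Φ : X.Modules → A} {r : ℕ}

include k in
/-- A torsion module counts with its lengths in codimension one. -/
theorem torsion_eq_gnum (hdim : topologicalKrullDim X = ((r + 1 : ℕ) : WithBot ℕ∞)) (hΦ : AddBelow Φ r)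
    {Q : X.Modules} (hQ : Coh.IsCoh Q) (hQη : Subsingleton (Q.presheaf.stalk (genericPoint X))) :
    Φ Q = gnum Φ r (fun x => ((IntMultLib.len Q x).toNat : ℤ)) ∧
      {x : X | Order.coheight x = 1 ∧ ((IntMultLib.len Q x).toNat : ℤ) ≠ 0}.Finite := by
  classical
  haveI := CurvLib.isNoetherian k (X := X)
  have hfin := finite_codim_one (QCohLib.isClosed_support Q hQ.2) fun h => h hQη
  refine ⟨?_, hfin.subset fun x hx => ⟨hx.1, ?_⟩⟩
  swap
  · intro h0
    haveI : Subsingleton (Q.presheaf.stalk x) := h0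
    refine hx.2 ?_
    rw [IntMultLib.len, Module.length_eq_zero]
    simp
  have hdimQ : topologicalKrullDim ↥(CohB1.support Q) ≤ ((r : ℕ) : WithBot ℕ∞) := by
    have h1 := Groth.Agent.S10830.result X (by rw [hdim]; exact WithBot.coe_injective.ne (ENat.coe_ne_top _))
      _ (QCohLib.isClosed_support Q hQ.2) fun h => by
        have : genericPoint X ∈ CohB1.support Q := by rw [h]; trivial
        exact this hQη
    rw [hdim] at h1
    exact ENat.WithBot.lt_add_one_iff.mp (by exact_mod_cast h1)
  rcases (CohB1.support Q).eq_empty_or_nonempty with hemp | hne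
  · rw [hΦ.low Q hQ (IntFunLib.dim_lt_of_points (QCohLib.isClosed_support Q hQ.2)
      fun y hy => by rw [hemp] at hy; exact absurd hy (Set.notMem_empty y)), gnum,
      finsum_eq_zero_of_forall_eq_zero]
    intro x
    have : Subsingleton (Q.presheaf.stalk x) := not_not.1 fun h => by
      have : x ∈ CohB1.support Q := h
      rw [hemp] at this
      exact this
    rw [IntMultLib.len, Module.length_eq_zero]
    simp
  obtain ⟨T, hT, hsum⟩ := IntMultLib.additive_eq_sum (k := k) Φ hΦ.iso hΦ.add hΦ.low
    (QCohLib.isClosed_support Q hQ.2) hne hdimQ Q hQ le_rfl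
  rw [hsum, gnum, finsum_eq_sum_of_support_subset _ (s := T) fun x hx => ?_]
  · refine Finset.sum_congr rfl fun x hx => ?_
    obtain ⟨-, hxd⟩ := (hT x).1 hx
    rw [if_pos (coheight_eq_one_of_dim hdim hxd), if_pos hxd, natCast_zsmul]
  · rw [Function.mem_support] at hx
    have h1 := left_ne_zero_of_smul hx
    have h2 := right_ne_zero_of_smul hx
    have hd : topologicalKrullDim (closure ({x} : Set X)) = (r : WithBot ℕ∞) := by
      by_contra hd
      exact h2 (if_neg hd)
    refine Finset.mem_coe.2 ((hT x).2 ⟨?_, hd⟩)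
    intro h0
    haveI : Subsingleton (Q.presheaf.stalk x) := h0
    rw [IntMultLib.len, Module.length_eq_zero] at h1
    simp at h1

include k in
/-- Principal divisors count zero. -/
theorem gnum_principal (hX : Pi1.IsNormalScheme X) (hdim : topologicalKrullDim X = ((r + 1 : ℕ) : WithBot ℕ∞))
    (hΦ : AddBelow Φ r) {δ : X.presheaf.stalk (genericPoint X)} (hδ : δ ≠ 0) :
    gnum Φ r (fun x => Scheme.ord (X := X) δ x) = 0 ∧
      {x : X | Order.coheight x = 1 ∧ Scheme.ord (X := X) δ x ≠ 0}.Finite := by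
  have h1 := AmpleLib.one_genOn (X := X) ⊤
  have hg := h1.genAt (x := genericPoint X) trivial
  have hD : HasDiv (Coh.structureModule X) (fun x => Scheme.ord (X := X) δ x) := by
    refine ⟨δ • (Coh.structureModule X).presheaf.germ ⊤ _ trivial (1 : Γ(X, ⊤)), fun h0 => hδ (hg.1 ?_),
      fun x hx => Ref1Lib.secOrdAt_free _ hx _ (fun h0 => hδ (hg.1 ?_)) (h1.genAt (x := x) trivial) ?_⟩
    · exact h0.trans (zero_smul _ _).symm
    · exact h0.trans (zero_smul _ _).symm
    · exact congrArg (δ • ·) (spec_germ (Coh.structureModule X) (U := ⊤) (x := x) trivial _).symm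
  exact ⟨by simpa using (add_eq_gnum k hX hdim hΦ Ref1Lib.isRef1_unit hD),
    finite_div k hX Ref1Lib.isRef1_unit hD⟩

include k in
/-- An additive function on a finite sum of invertible modules. -/
theorem biproduct_eq_gnum (hX : Pi1.IsNormalScheme X) (hdim : topologicalKrullDim X = ((r + 1 : ℕ) : WithBot ℕ∞))
    (hΦ : AddBelow Φ r) : ∀ {m : ℕ} (P : Fin m → X.Modules), (∀ i, PicF.IsInvertible (P i)) →
    ∀ D : Fin m → X → ℤ, (∀ i, HasDiv (P i) (D i)) →
      Φ (⨁ P) = m • Φ (Coh.structureModule X) + gnum Φ r (∑ i, D i) ∧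
        {x : X | Order.coheight x = 1 ∧ (∑ i, D i) x ≠ 0}.Finite := by
  classical
  have hg0 : gnum Φ r (fun _ : X => (0 : ℤ)) = 0 := finsum_eq_zero_of_forall_eq_zero fun x => by
    simp
  intro m
  induction m with
  | zero =>
    intro P _ D _
    refine ⟨?_, by simp⟩
    rw [zero_smul, zero_add, Finset.univ_eq_empty, Finset.sum_empty]
    refine Eq.trans ?_ hg0.symm
    have hz : IsZero (⨁ P) := (IsZero.iff_id_eq_zero _).2 (biproduct.hom_ext _ _ fun i => i.elim0)
    refine hΦ.low _ (DevissLib.isCoh_of_isZero hz) ?_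
    exact IntFunLib.dim_lt_of_points (QCohLib.isClosed_support _ (DevissLib.isCoh_of_isZero hz).2)
      fun y hy => by rw [DevissLib.support_of_isZero hz] at hy; exact absurd hy (Set.notMem_empty y)
  | succ m ih =>
    intro P hP D hD
    obtain ⟨h1, h2⟩ := ih (fun i => P i.succ) (fun i => hP i.succ) (fun i => D i.succ) fun i => hD i.succ
    have hc := fun i => (Ref1Lib.isRef1_of_invertible (hP i)).1
    have hf0 := finite_div k hX (Ref1Lib.isRef1_of_invertible (hP 0)) (hD 0)
    rw [Fin.sum_univ_succ]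
    refine ⟨?_, (hf0.union h2).subset fun x hx => ?_⟩
    · let S : ShortComplex X.Modules := ShortComplex.mk (biprod.inl : P 0 ⟶ P 0 ⊞ ⨁ fun i : Fin m => P i.succ)
        biprod.snd (by simp)
      have hS : S.ShortExact := (ShortComplex.Splitting.ofHasBinaryBiproduct _ _).shortExact
      have h3 : Φ S.X₂ = Φ S.X₁ + Φ S.X₃ := hΦ.add S hS (hc 0) (DevissLib.isCoh_biprod (hc 0)
        (isCoh_biproduct _ fun i => hc i.succ)) (isCoh_biproduct _ fun i => hc i.succ)
      rw [hΦ.iso _ _ (ResPropLib.biproductSuccIso P)]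
      refine h3.trans ?_
      rw [gnum_add hf0 h2]
      show Φ (P 0) + Φ (⨁ fun i : Fin m => P i.succ) = _
      rw [h1, add_eq_gnum k hX hdim hΦ (Ref1Lib.isRef1_of_invertible (hP 0)) (hD 0), succ_nsmul]
      abel
    · by_contra h
      simp only [Set.mem_union, Set.mem_setOf_eq, not_or, not_and, not_not] at h
      exact hx.2 (by rw [Pi.add_apply, h.1 hx.1, h.2 hx.1, add_zero])

include k in
/-- An additive function of a coherent module is affine in the divisor of its determinant. -/
theorem eq_gnum_det (hX : Pi1.IsNormalScheme X) (hamp : ∃ L : X.Modules, CohB1.IsAmple L)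
    (hdim : topologicalKrullDim X = ((r + 1 : ℕ) : WithBot ℕ∞)) (hΦ : AddBelow Φ r)
    {F : X.Modules} (hF : Coh.IsCoh F) (htf : TF F) {n : ℕ}
    (B : Module.Basis (Fin n) (X.presheaf.stalk (genericPoint X)) (F.presheaf.stalk (genericPoint X)))
    {D : X → ℤ} (hD : HasDet F B D) :
    Φ F = n • Φ (Coh.structureModule X) + gnum Φ r D ∧
      {x : X | Order.coheight x = 1 ∧ D x ≠ 0}.Finite := by
  classical
  let η := genericPoint X
  let K := X.presheaf.stalk η
  haveI := CurvLib.isNoetherian k (X := X)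
  haveI := hF.1
  obtain ⟨L, hL⟩ := hamp
  choose d s hxs hsa using hL.2.2
  have hinv : ∀ x, PicF.IsInvertible (CohB1.tensorPow L (d x + 1)) := fun x =>
    AmpleThLib.tensorPow_isInvertible hL.1 (d x + 1)
  obtain ⟨m, xp, N, π, -, hπ⟩ := AmpleAffLib.exists_epi_biproduct hinv _
    (fun x => (AmpleThLib.genLocus_hom (hinv x) (s x)) ▸ hxs x)
    (fun x => (AmpleThLib.genLocus_hom (hinv x) (s x)) ▸ hsa x) F hF.2
  haveI := hπ
  let P : Fin m → X.Modules := fun a => MiscFlat6.dual (CohB1.tensorPow (CohB1.tensorPow L (d (xp a) + 1)) (N a))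
  have hP : ∀ a, PicF.IsInvertible (P a) := fun a =>
    MiscFlat6.dual_isInvertible (AmpleThLib.tensorPow_isInvertible (hinv (xp a)) (N a))
  choose w hw using fun a => Ref1Lib.exists_gen_generic (Ref1Lib.isRef1_of_invertible (hP a))
  let u : Fin m → F.presheaf.stalk η := fun a => RefHull.stalkMapₗ (biproduct.ι P a ≫ π) η (w a)
  have hu : Submodule.span K (Set.range u) = ⊤ := by
    rw [eq_top_iff]
    rintro v -
    obtain ⟨v', rfl⟩ := (ModuleCat.epi_iff_surjective ((DerSch.stalkFunctor X η).map π)).1 inferInstance v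
    show RefHull.stalkMapₗ π η v' ∈ _
    rw [stalk_total P η v', map_sum]
    refine Submodule.sum_mem _ fun j _ => ?_
    obtain ⟨c, hc⟩ := (hw j).2 (RefHull.stalkMapₗ (biproduct.π P j) η v')
    rw [← RefHullLib.stalkMap_comp, ← hc, map_smul]
    exact Submodule.smul_mem _ _ (Submodule.subset_span ⟨j, rfl⟩)
  obtain ⟨c, B₁, hB₁⟩ : ∃ (c : Fin n → Fin m) (B₁ : Module.Basis (Fin n) K (F.presheaf.stalk η)),
      ∀ j, B₁ j = u (c j) := by
    letI : Field K := inferInstanceAs (Field X.functionField)
    let b := Module.Basis.ofSpan hu.ge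
    have hb : ∀ i, ∃ a, u a = b i := fun i => (Module.Basis.ofSpan_subset hu.ge) ⟨i, rfl⟩
    let e := b.indexEquiv B
    choose c hc using hb
    exact ⟨fun j => c (e.symm j), b.reindex e, fun j => by rw [hc]; exact Module.Basis.reindex_apply _ _ _⟩
  let G := ⨁ fun j => P (c j)
  let a : G ⟶ F := biproduct.desc fun j => biproduct.ι P (c j) ≫ π
  have ha : ∀ (x : X) (j : Fin n) (t : (P (c j)).presheaf.stalk x),
      RefHull.stalkMapₗ a x (RefHull.stalkMapₗ (biproduct.ι (fun j => P (c j)) j) x t) =
        RefHull.stalkMapₗ (biproduct.ι P (c j) ≫ π) x t := fun x j t => by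
    rw [← RefHullLib.stalkMap_comp, biproduct.ι_desc]
  let vG : Fin n → G.presheaf.stalk η := fun j => RefHull.stalkMapₗ (biproduct.ι (fun j => P (c j)) j) η (w (c j))
  have hvG : ∀ j, RefHull.stalkMapₗ a η (vG j) = B₁ j := fun j => (ha η j _).trans (hB₁ j).symm
  have hspanG : ∀ v : G.presheaf.stalk η, ∃ e : Fin n → K, v = ∑ j, e j • vG j := fun v => by
    choose e he using fun j => (hw (c j)).2 (RefHull.stalkMapₗ (biproduct.π (fun j => P (c j)) j) η v)
    refine ⟨e, (stalk_total _ η v).trans (Finset.sum_congr rfl fun j _ => ?_)⟩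
    rw [← he j, map_smul]
  have haη : Function.Bijective (RefHull.stalkMapₗ a η) := by
    refine ⟨(injective_iff_map_eq_zero _).2 fun v hv => ?_, fun f => ?_⟩
    · obtain ⟨e, rfl⟩ := hspanG v
      rw [map_sum] at hv
      simp only [map_smul, hvG] at hv
      have := Fintype.linearIndependent_iff.1 B₁.linearIndependent e hv
      simp [this]
    · refine ⟨∑ j, B₁.repr f j • vG j, ?_⟩
      rw [map_sum]
      simp only [map_smul, hvG]
      exact B₁.sum_repr f
  have hGinj : ∀ x : X, Function.Injective (spec G x) := fun x p q hpq => by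
    rw [stalk_total _ x p, stalk_total _ x q]
    refine Finset.sum_congr rfl fun j _ => congrArg _ ?_
    refine Ref1Lib.spec_injective (Ref1Lib.isRef1_of_invertible (hP (c j))) x ?_
    rw [spec_map, spec_map, hpq]
  haveI : Mono a := RpushLib.mono_of_stalks a fun x => (ModuleCat.mono_iff_injective _).2 fun p q h => by
    refine hGinj x (haη.1 ?_)
    exact ((spec_map a x p).symm.trans (congrArg (spec F x) h)).trans (spec_map a x q)
  have hGc : Coh.IsCoh G := isCoh_biproduct _ fun j => (Ref1Lib.isRef1_of_invertible (hP (c j))).1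
  let Q := cokernel a
  have hex : (ShortComplex.mk a (cokernel.π a) (cokernel.condition a)).Exact := ShortComplex.exact_cokernel a
  have hS : (ShortComplex.mk a (cokernel.π a) (cokernel.condition a)).ShortExact := { exact := hex }
  have hQ : Coh.IsCoh Q := QCohLib.isCoh_cokernel a hGc.1 hF
  have hst := fun x => DetModLib.stalk_exact a (cokernel.π a) (cokernel.condition a) hex x
  have hzero : ∀ (x : X) (p : G.presheaf.stalk x),
      RefHull.stalkMapₗ (cokernel.π a) x (RefHull.stalkMapₗ a x p) = 0 := fun x p => by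
    rw [← RefHullLib.stalkMap_comp, cokernel.condition]
    exact congrArg (fun f => f.hom p) ((DerSch.stalkFunctor X x).map_zero G Q)
  have hQη : Subsingleton (Q.presheaf.stalk η) := ⟨fun p q => by
    obtain ⟨p, rfl⟩ := (hst η).1 p
    obtain ⟨q, rfl⟩ := (hst η).1 q
    obtain ⟨p, rfl⟩ := haη.2 p
    obtain ⟨q, rfl⟩ := haη.2 q
    rw [hzero, hzero]⟩
  let DP : Fin n → X → ℤ := fun j x => Cyc.secOrdAt (P (c j)) η x (specializes_generic x)
    (Submodule.Quotient.mk (w (c j)))
  have hDP : ∀ j, HasDiv (P (c j)) (DP j) := fun j =>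
    ⟨w (c j), Ref1Lib.freeGen_ne_zero (hw _), fun x _ => rfl⟩
  obtain ⟨hΦG, hfG⟩ := biproduct_eq_gnum k hX hdim hΦ (fun j => P (c j)) (fun j => hP _) DP hDP
  obtain ⟨hΦQ, hfQ⟩ := torsion_eq_gnum k hdim hΦ hQ hQη
  let δ : K := B.det B₁
  have hδ : δ ≠ 0 := by
    letI : Field K := inferInstanceAs (Field X.functionField)
    exact (B.isUnit_det B₁).ne_zero
  obtain ⟨hgδ, hfδ⟩ := gnum_principal k hX hdim hΦ (Φ := Φ) hδ
  let D₁ : X → ℤ := (∑ j, DP j) + fun x => ((IntMultLib.len Q x).toNat : ℤ)
  have hkey : ∀ x : X, Order.coheight x = 1 → D₁ x = (D + fun x => Scheme.ord (X := X) δ x) x := by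
    intro x hx
    obtain ⟨ℓ, hℓ0, hℓ, hDx⟩ := hD x hx
    let R := X.presheaf.stalk x
    let ι := algebraMap R X.functionField
    have hιinj : Function.Injective ι := IsFractionRing.injective R X.functionField
    choose t ht using fun j => Ref1Lib.exists_freeGen hX (Ref1Lib.isRef1_of_invertible (hP (c j))) hx
    choose φ hφ using fun j => Ref1Lib.exists_eq_smul_spec (Ref1Lib.isRef1_of_invertible (hP (c j)))
      (Ref1Lib.freeGen_ne_zero (ht j)) (w (c j))
    have hφ0 : ∀ j, (φ j : X.functionField) ≠ 0 := fun j h0 =>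
      Ref1Lib.freeGen_ne_zero (hw (c j)) (by rw [hφ j, h0]; exact zero_smul _ _)
    have hDPx : ∀ j, DP j x = Scheme.ord (X := X) (φ j) x := fun j =>
      Ref1Lib.secOrdAt_free _ hx _ (Ref1Lib.freeGen_ne_zero (hw _)) (ht j) (hφ j)
    let τ : Fin n → G.presheaf.stalk x := fun j => RefHull.stalkMapₗ (biproduct.ι (fun j => P (c j)) j) x (t j)
    let y : Fin n → F.presheaf.stalk x := fun j => RefHull.stalkMapₗ a x (τ j)
    have hy : ∀ j, B₁ j = φ j • spec F x (y j) := fun j => by
      rw [← hvG j, spec_map, spec_map, ← map_smul, ← map_smul, ← hφ j]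
    -- coordinates in the lattice
    have hli : LinearIndependent K (fun j => spec F x (ℓ j)) :=
      (B.is_basis_iff_det.2 (Ne.isUnit (G₀ := X.functionField) hℓ0)).1
    have huniq : ∀ e e' : Fin n → R,
        ∑ i, ι (e i) • spec F x (ℓ i) = ∑ i, ι (e' i) • spec F x (ℓ i) → e = e' := fun e e' h =>
      funext fun i => hιinj (Fintype.linearIndependent_iffₛ.1 hli (fun i => ι (e i)) (fun i => ι (e' i)) h i)
    have hlin : ∀ e : Fin n → R, spec F x (∑ i, e i • ℓ i) = ∑ i, ι (e i) • spec F x (ℓ i) := fun e =>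
      (map_sum (F.presheaf.stalkSpecializes (specializes_generic x)).hom _ _).trans
        (Finset.sum_congr rfl fun i _ => spec_smul F x (e i) (ℓ i))
    let Λ : (Fin n → R) →ₗ[R] F.presheaf.stalk x :=
      { toFun := fun e => ∑ i, e i • ℓ i
        map_add' := fun e e' => by simp only [Pi.add_apply, add_smul, Finset.sum_add_distrib]
        map_smul' := fun q e => by simp only [Pi.smul_apply, smul_eq_mul, mul_smul, Finset.smul_sum, RingHom.id_apply] }
    have hΛ : Function.Bijective Λ := by
      refine ⟨fun e e' h => huniq e e' ((hlin e).symm.trans ((congrArg (spec F x) h).trans (hlin e'))),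
        fun v => ?_⟩
      obtain ⟨e, he⟩ := hℓ v
      exact ⟨e, htf x hx ((hlin e).trans he.symm)⟩
    let Le := LinearEquiv.ofBijective Λ hΛ
    let M : Matrix (Fin n) (Fin n) R := Matrix.of fun i j => Le.symm (y j) i
    have hM : ∀ j, y j = Λ (fun i => M i j) := fun j => (Le.apply_symm_apply (y j)).symm
    have hdet1 : δ = (∏ j, (φ j : X.functionField)) * B.det (fun j => spec F x (y j)) := by
      show B.det ⇑B₁ = _
      rw [DetModLib.det_combo B (Matrix.diagonal fun j => φ j) (⇑B₁) (fun j => spec F x (y j)) fun j => ?_,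
        Matrix.det_diagonal]
      rw [Finset.sum_eq_single j (fun i _ hi => by rw [Matrix.diagonal_apply_ne _ hi, zero_smul])
        (fun h => absurd (Finset.mem_univ j) h), Matrix.diagonal_apply_eq]
      exact hy j
    have hdet2 : B.det (fun j => spec F x (y j)) = ι M.det * B.det (fun j => spec F x (ℓ j)) := by
      rw [DetModLib.det_combo B (ι.mapMatrix M) (fun j => spec F x (y j)) (fun j => spec F x (ℓ j))
        fun j => (congrArg (spec F x) (hM j)).trans (hlin _)]
      exact congrArg (· * _) (RingHom.map_det ι M).symm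
    have hM0 : M.det ≠ 0 := fun h0 => by
      rw [hdet2, h0, map_zero, zero_mul, mul_zero] at hdet1
      exact hδ hdet1
    -- the length of the cokernel
    have hlen : IntMultLib.len Q x = Ring.ord R M.det := by
      let p : (Fin n → R) →ₗ[R] Q.presheaf.stalk x := (RefHull.stalkMapₗ (cokernel.π a) x).comp Λ
      have hp : Function.Surjective p := (hst x).1.comp hΛ.2
      have hMv : ∀ e : Fin n → R, Λ (M.mulVecLin e) = ∑ j, e j • y j := fun e => by
        rw [Matrix.mulVecLin_apply, Matrix.mulVec_eq_sum]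
        rw [map_sum]
        refine Finset.sum_congr rfl fun j _ => ?_
        rw [hM j, ← map_smul]
        refine congrArg Λ ?_
        ext i
        simp [Matrix.transpose, mul_comm]
      have hker : LinearMap.ker p = LinearMap.range M.mulVecLin := by
        apply le_antisymm
        · intro e he
          obtain ⟨z, hz⟩ := (hst x).2 (Λ e) (LinearMap.mem_ker.1 he)
          choose q hq using fun j => (ht j).2 (RefHull.stalkMapₗ (biproduct.π (fun j => P (c j)) j) x z)
          refine ⟨q, hΛ.1 ?_⟩
          rw [hMv, ← hz, stalk_total _ x z, map_sum]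
          refine Finset.sum_congr rfl fun j _ => ?_
          rw [← hq j, map_smul, map_smul]
        · rintro e ⟨q, rfl⟩
          refine LinearMap.mem_ker.2 ?_
          show RefHull.stalkMapₗ (cokernel.π a) x (Λ (M.mulVecLin q)) = 0
          rw [hMv, map_sum]
          refine Finset.sum_eq_zero fun j _ => ?_
          rw [map_smul, hzero, smul_zero]
      rw [IntMultLib.len, ← (p.quotKerEquivOfSurjective hp).length_eq, hker]
      have h := Groth.Agent.S0612.result M.mulVecLin (by
        rw [← Matrix.toLin'_apply', LinearMap.det_toLin']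
        exact mem_nonZeroDivisors_of_ne_zero hM0)
      rwa [← Matrix.toLin'_apply', LinearMap.det_toLin', Matrix.toLin'_apply'] at h
    have hprod : ∀ s : Finset (Fin n), (∏ j ∈ s, (φ j : X.functionField)) ≠ 0 ∧
        Scheme.ord (X := X) (∏ j ∈ s, (φ j : X.functionField)) x = ∑ j ∈ s, Scheme.ord (X := X) (φ j) x := by
      intro s
      induction s using Finset.induction with
      | empty => exact ⟨one_ne_zero, by simpa using Ref1Lib.units_spec hx (isUnit_one (M := R))⟩
      | insert j s hj ih =>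
        rw [Finset.prod_insert hj, Finset.sum_insert hj]
        exact ⟨mul_ne_zero (hφ0 j) ih.1, by rw [Scheme.ord_mul (hφ0 j) ih.1, ih.2]⟩
    have hιM : ι M.det ≠ 0 := (map_ne_zero_iff _ hιinj).2 hM0
    show D₁ x = D x + Scheme.ord (X := X) δ x
    rw [hdet1, hdet2, Scheme.ord_mul (hprod Finset.univ).1 (mul_ne_zero hιM hℓ0), (hprod Finset.univ).2,
      Scheme.ord_mul hιM hℓ0, DetModLib.ord_algebraMap hx hM0, ← hlen, hDx]
    simp only [D₁, Pi.add_apply, Finset.sum_apply, hDPx]
    ring
  have hfD : {x : X | Order.coheight x = 1 ∧ D x ≠ 0}.Finite := ((hfG.union hfQ).union hfδ).subset fun x hx => by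
    by_contra h
    simp only [Set.mem_union, Set.mem_setOf_eq, not_or, not_and, not_not] at h
    have h' := hkey x hx.1
    simp only [D₁, Pi.add_apply, h.1.1 hx.1, h.1.2 hx.1, h.2 hx.1, add_zero] at h'
    exact hx.2 h'.symm
  refine ⟨?_, hfD⟩
  have hsum : Φ F = Φ G + Φ Q := hΦ.add _ hS hGc hF hQ
  rw [hsum, hΦG, hΦQ, add_assoc, ← gnum_add hfG hfQ, gnum_congr hkey, gnum_add hfD hfδ, hgδ, add_zero]

end RefDetNumLib

end
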