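import Groth.Agent.RefDetNumLib.Main
import Groth.Agent.RefFrobLib.Main

/-!
# The divisor of the determinant of a coherent module on a normal scheme
-/

set_option autoImplicit false
set_option linter.style.haveILetI false
set_option linter.unusedSectionVars false
universe u

open CategoryTheory CategoryTheory.Limits AlgebraicGeometry TopologicalSpace Opposite
open scoped TensorProduct

noncomputable section

namespace RefDetNumLib

open Ref1Lib (spec spec_germ spec_smul spec_map)
open RefHullLib (specializes_generic)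

variable {X : Scheme.{u}} [IsIntegral X] [IsLocallyNoetherian X] {r : ℕ}

/-- The double dual of the determinant: the orders of its rational sections, on a normal scheme. -/
theorem exists_ddual_data (hX : Pi1.IsNormalScheme X)
    {F L : X.Modules} (hF : Coh.IsCoh F)
    (hb : Nonempty (Module.Basis (Fin r) (X.presheaf.stalk (genericPoint X))
      (F.presheaf.stalk (genericPoint X))))
    (hL : ExtPow.IsExtPow r F L) :
    RefHull.IsRef1 (RefHull.ddual L) ∧
    ∃ (B : Module.Basis (Fin r) (X.presheaf.stalk (genericPoint X)) (F.presheaf.stalk (genericPoint X)))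
      (ν : (RefHull.ddual L).presheaf.stalk (genericPoint X)), ν ≠ 0 ∧
      (∀ d : X.presheaf.stalk (genericPoint X), d ≠ 0 → d • ν ≠ 0) ∧
      ∀ (x : X) (hx : Order.coheight x = 1) (m : Fin r → F.presheaf.stalk x),
        B.det (fun j => spec F x (m j)) ≠ 0 →
        (∀ v : F.presheaf.stalk x, ∃ c : Fin r → X.presheaf.stalk x,
          spec F x v = ∑ i, algebraMap _ X.functionField (c i) • spec F x (m i)) →
        ∀ d : X.presheaf.stalk (genericPoint X), d ≠ 0 →
          Cyc.secOrdAt (RefHull.ddual L) (genericPoint X) x (specializes_generic x)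
            (Submodule.Quotient.mk (d • ν)) =
          Scheme.ord (X := X) d x - Scheme.ord (X := X) (B.det (fun j => spec F x (m j))) x := by
  have hLc := RhoBigLib.isCoh_of_isExtPow hF hL
  obtain ⟨B, V, hV, σ, hσ, hwedge, hspan⟩ := DetModLib.exists_det hF hb hL
  let β := RefHull.bidualMap L
  have hσ' : AmpleLib.GenOn (RefHull.ddual L) (β.app V σ) :=
    Ref1Lib.genOn_map β hσ fun y hy => Ref1Lib.bijective_bidual_of_free hLc (hσ.genAt hy)
  have hN : RefHull.IsRef1 (RefHull.ddual L) :=
    ⟨RefHullLib.isCoh_dual (RefHullLib.isCoh_dual hLc), Ref1Lib.isReflexive_dual' (RefHullLib.isCoh_dual hLc),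
      Ref1Lib.genInvertible_of_genOn hV _ hσ'⟩
  refine ⟨hN, B, ?_⟩
  let ω := L.presheaf.germ V _ hV σ
  let ν := RefHull.stalkMapₗ β (genericPoint X) ω
  have hνgen : Ref1Lib.FreeGen (RefHull.ddual L) (genericPoint X) ν :=
    Ref1Lib.freeGen_map β (hσ.genAt hV) (Ref1Lib.bijective_bidual_of_free hLc (hσ.genAt hV))
  have hdν : ∀ d : X.presheaf.stalk (genericPoint X), d ≠ 0 → d • ν ≠ 0 := fun d hd h0 =>
    hd (hνgen.1 (by simpa using h0))
  refine ⟨ν, Ref1Lib.freeGen_ne_zero hνgen, hdν, fun x hx m hm0 hm d hd => ?_⟩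
  let c : X.functionField := B.det (fun j => spec F x (m j))
  have hd1 : ringKrullDim (X.presheaf.stalk x) ≤ 1 := by
    rw [ringKrullDim_stalk_eq_coheight, hx]; rfl
  obtain ⟨t, ht⟩ := hwedge x m
  have hτ : spec (RefHull.ddual L) x (RefHull.stalkMapₗ β x t) = c • ν := by
    rw [spec_map, ht]
    exact map_smul (RefHull.stalkMapₗ β (genericPoint X)) _ _
  have hinj := Ref1Lib.spec_injective hN x
  have hfree : Ref1Lib.FreeGen (RefHull.ddual L) x (RefHull.stalkMapₗ β x t) := by
    refine ⟨fun a b hab => ?_, fun n => ?_⟩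
    · dsimp only at hab
      have h := congrArg (spec (RefHull.ddual L) x) hab
      rw [spec_smul, spec_smul, hτ, smul_smul, smul_smul] at h
      exact IsFractionRing.injective (X.presheaf.stalk x) X.functionField
        (mul_right_cancel₀ hm0 (hνgen.1 h))
    · obtain ⟨l, rfl⟩ := RefHullLib.surjective_bidual_stalk_of_dim_le_one hX hLc hd1 n
      obtain ⟨a, ha⟩ := hspan x m hm l
      refine ⟨a, hinj ?_⟩
      show spec _ x (a • RefHull.stalkMapₗ β x t) = _
      rw [spec_smul, hτ, spec_map, ha, smul_smul]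
      exact (map_smul (RefHull.stalkMapₗ β (genericPoint X)) _ _).symm
  rw [Ref1Lib.secOrdAt_free (RefHull.ddual L) hx _ (hdν d hd) hfree (φ := d * c⁻¹) (by
    rw [hτ, smul_smul]
    exact congrArg (· • ν) (inv_mul_cancel_right₀ (G₀ := X.functionField) hm0 d).symm)]
  exact (Scheme.ord_mul (X := X) hd (inv_ne_zero hm0)).trans (by rw [CDivCoreLib.ord_inv hm0]; ring)

theorem tf_of_torsionFree {F : X.Modules} [Coh.IsQCoh F] (x : X)
    [Module.IsTorsionFree (X.presheaf.stalk x) (F.presheaf.stalk x)] : Function.Injective (spec F x) :=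
  RefHullLib.injective_stalkSpecializes_generic F x _

theorem tf_of_isReflexive {F : X.Modules} (hF : Coh.IsCoh F) (hr : RefHull.IsReflexive F) : TF F := by
  intro x _
  haveI := hF.1
  haveI : Module.IsReflexive (X.presheaf.stalk x) (F.presheaf.stalk x) :=
    (RefHullLib.isReflexive_iff hF).1 hr x
  haveI : Module.IsTorsionFree (X.presheaf.stalk x) (F.presheaf.stalk x) :=
    RefHullLib.torsionFree_of_isReflexive (F.presheaf.stalk x)
  exact tf_of_torsionFree x

theorem nonempty_basis_of_finrank {F : X.Modules} (hF : Coh.IsCoh F)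
    (hrk : Module.finrank (X.presheaf.stalk (genericPoint X)) (F.presheaf.stalk (genericPoint X)) = r) :
    Nonempty (Module.Basis (Fin r) (X.presheaf.stalk (genericPoint X)) (F.presheaf.stalk (genericPoint X))) := by
  haveI := hF.1
  haveI := DepthLib.finite_stalk F hF.2 (genericPoint X)
  letI : Field (X.presheaf.stalk (genericPoint X)) := inferInstanceAs (Field X.functionField)
  exact ⟨Module.finBasisOfFinrankEq _ _ hrk⟩

theorem tf_of_iso {F G : X.Modules} (e : F ≅ G) (h : TF F) : TF G := fun x hx a b hab => by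
  have hinj : Function.Injective (RefHull.stalkMapₗ e.inv x) :=
    ((RefHullLib.isIso_iff_stalk e.inv).1 inferInstance x).1
  refine hinj (h x hx ?_)
  rw [spec_map, spec_map, hab]

theorem hasDet_of_iso {F G : X.Modules} (e : F ≅ G)
    (B : Module.Basis (Fin r) (X.presheaf.stalk (genericPoint X)) (F.presheaf.stalk (genericPoint X)))
    {D : X → ℤ} (h : HasDet F B D) :
    ∃ B' : Module.Basis (Fin r) (X.presheaf.stalk (genericPoint X)) (G.presheaf.stalk (genericPoint X)),
      HasDet G B' D := by
  have hb := (RefHullLib.isIso_iff_stalk e.hom).1 inferInstance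
  let L := LinearEquiv.ofBijective (RefHull.stalkMapₗ e.hom (genericPoint X)) (hb _)
  refine ⟨B.map L, fun x hx => ?_⟩
  obtain ⟨m, hm0, hm, hD⟩ := h x hx
  have hdet : (B.map L).det (fun j => spec G x (RefHull.stalkMapₗ e.hom x (m j))) = B.det (fun j => spec F x (m j)) := by
    rw [Module.Basis.det_map]
    refine congrArg B.det (funext fun j => ?_)
    show L.symm (spec G x (RefHull.stalkMapₗ e.hom x (m j))) = _
    rw [spec_map]
    exact L.symm_apply_apply _
  refine ⟨fun j => RefHull.stalkMapₗ e.hom x (m j), by rw [hdet]; exact hm0, fun v => ?_, by rw [hdet]; exact hD⟩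
  obtain ⟨v, rfl⟩ := (hb x).2 v
  obtain ⟨c, hc⟩ := hm v
  refine ⟨c, ?_⟩
  rw [spec_map, hc, map_sum]
  exact Finset.sum_congr rfl fun i _ => (map_smul _ _ _).trans (congrArg _ (spec_map e.hom x (m i)).symm)

theorem gnum_mul {Φ : X.Modules → ℤ} {d : ℕ} {D : X → ℤ} (c : ℤ) :
    RefNumLib.gnum Φ d (fun x => c * D x) = c * RefNumLib.gnum Φ d D := by
  rw [RefNumLib.gnum, RefNumLib.gnum, ← smul_eq_mul c, smul_finsum]
  refine finsum_congr fun x => ?_
  split_ifs <;> simp [smul_eq_mul, mul_assoc]

section

variable {Y Z : Scheme.{u}} {ι : Type*} (g : Y ⟶ Z) (M : Z.Modules) (y : Y)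
  (b : Module.Basis ι (Z.presheaf.stalk (g y)) (M.presheaf.stalk (g y)))

/-- The pullback of a basis of a stalk. -/
def pullBasis : Module.Basis ι (Y.presheaf.stalk y) (((Scheme.Modules.pullback g).obj M).presheaf.stalk y) :=
  letI := (g.stalkMap y).hom.toAlgebra
  (b.baseChange (Y.presheaf.stalk y)).map (RefFrobLib.pullEquiv g M y)

theorem pullBasis_apply (i : ι) : pullBasis g M y b i = RefFrobLib.pullGerm g M y (b i) := by
  letI := (g.stalkMap y).hom.toAlgebra
  simp only [pullBasis, Module.Basis.map_apply, Module.Basis.baseChange_apply]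
  rfl

end

variable (p : ℕ) [Fact p.Prime] [FrobSch.IsCharP X p]

/-- The reflexive Frobenius pullback multiplies the determinant divisor by `p`. -/
theorem hasDet_frob (hX : Pi1.IsNormalScheme X) {G : X.Modules} (hG : Coh.IsCoh G)
    (B : Module.Basis (Fin r) (X.presheaf.stalk (genericPoint X)) (G.presheaf.stalk (genericPoint X)))
    {D : X → ℤ} (hD : HasDet G B D) :
    ∃ B' : Module.Basis (Fin r) (X.presheaf.stalk (genericPoint X))
        ((RefHull.ddual ((Scheme.Modules.pullback (FrobSch.frob X p)).obj G)).presheaf.stalk (genericPoint X)),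
      HasDet (RefHull.ddual ((Scheme.Modules.pullback (FrobSch.frob X p)).obj G)) B' (fun x => (p : ℤ) * D x) := by
  classical
  let η := genericPoint X
  let K := X.presheaf.stalk η
  let P := (Scheme.Modules.pullback (FrobSch.frob X p)).obj G
  have hP : Coh.IsCoh P := ConsLib.isCoh_pullback _ hG
  let β := RefHull.bidualMap P
  let f := FrobSch.frob X p
  let Bp : Module.Basis (Fin r) K (P.presheaf.stalk η) := pullBasis f G η B
  have hBp : ∀ i, Bp i = RefFrobLib.fgerm p G η (B i) := fun i => pullBasis_apply f G η B i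
  have hβη : Function.Bijective (RefHull.stalkMapₗ β η) := by
    refine (RefHullLib.bijective_stalk_bidual_iff hP η).2 ?_
    haveI : Module.Free K (P.presheaf.stalk η) := Module.Free.of_basis Bp
    haveI : Module.Finite K (P.presheaf.stalk η) := Module.Finite.of_basis Bp
    show Module.IsReflexive K (P.presheaf.stalk η)
    infer_instance
  let B' := Bp.map (LinearEquiv.ofBijective (RefHull.stalkMapₗ β η) hβη)
  refine ⟨B', fun x hx => ?_⟩
  obtain ⟨m, hm0, hm, hDx⟩ := hD x hx
  let m' : Fin r → (RefHull.ddual P).presheaf.stalk x := fun j => RefHull.stalkMapₗ β x (RefFrobLib.fgerm p G x (m j))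
  have hcomb : ∀ j, spec (RefHull.ddual P) x (m' j) = ∑ i, ((B.repr (spec G x (m j)) i) ^ p : K) • B' i := fun j => by
    show spec _ x (RefHull.stalkMapₗ β x _) = _
    rw [spec_map, RefFrobLib.spec_fgerm]
    have hadd : ∀ s : Finset (Fin r), RefFrobLib.fgerm p G η (∑ i ∈ s, B.repr (spec G x (m j)) i • B i) =
        ∑ i ∈ s, ((B.repr (spec G x (m j)) i) ^ p : K) • Bp i := by
      intro s
      induction s using Finset.induction with
      | empty => exact RefFrobLib.fgerm_zero p G η
      | insert i s hi ih =>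
        rw [Finset.sum_insert hi, Finset.sum_insert hi, RefFrobLib.fgerm_add, RefFrobLib.fgerm_smul, ih, hBp]
    conv_lhs => rw [← B.sum_repr (spec G x (m j))]
    rw [hadd, map_sum]
    exact Finset.sum_congr rfl fun i _ => map_smul (RefHull.stalkMapₗ β η) _ _
  have hdet : B'.det (fun j => spec (RefHull.ddual P) x (m' j)) = (B.det (fun j => spec G x (m j)) : K) ^ p := by
    let C : Matrix (Fin r) (Fin r) K := B.toMatrix fun j => spec G x (m j)
    let φ : K →+* K := (f.stalkMap η).hom
    rw [DetModLib.det_combo B' (φ.mapMatrix C) _ (⇑B') fun j => (hcomb j).trans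
      (Finset.sum_congr rfl fun i _ => congrArg (· • B' i) (RefFrobLib.stalkMap_frob X p η _).symm),
      B'.det_self, mul_one, ← RingHom.map_det]
    exact RefFrobLib.stalkMap_frob X p η _
  refine ⟨m', ?_, fun v => ?_, ?_⟩
  · rw [hdet]
    exact pow_ne_zero p (M₀ := X.functionField) hm0
  · obtain ⟨v, rfl⟩ := RefHullLib.surjective_bidual_stalk_of_dim_le_one hX hP
      (x := x) (by rw [ringKrullDim_stalk_eq_coheight, hx]; rfl) v
    obtain ⟨v, rfl⟩ := (RefFrobLib.pullEquiv f G x).surjective v
    letI := (f.stalkMap x).hom.toAlgebra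
    induction v using TensorProduct.induction_on with
    | zero => exact ⟨0, by simp⟩
    | add a b iha ihb =>
      obtain ⟨ca, ha⟩ := iha
      obtain ⟨cb, hb⟩ := ihb
      refine ⟨ca + cb, ?_⟩
      rw [map_add, map_add]
      refine (map_add _ _ _).trans ((congrArg₂ (· + ·) ha hb).trans ?_)
      rw [← Finset.sum_add_distrib]
      exact Finset.sum_congr rfl fun i _ => by rw [Pi.add_apply, map_add, add_smul]
    | tmul e g =>
      obtain ⟨c, hc⟩ := hm g
      refine ⟨fun i => e * (c i) ^ p, ?_⟩
      have he : RefFrobLib.pullEquiv f G x (e ⊗ₜ g) = e • RefFrobLib.fgerm p G x g :=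
        RefFrobLib.pullEquiv_tmul f G x e g
      rw [he, map_smul, spec_smul, spec_map, RefFrobLib.spec_fgerm]
      refine (congrArg (fun z => (algebraMap _ X.functionField e : K) • RefHull.stalkMapₗ β η (RefFrobLib.fgerm p G η z)) hc).trans ?_
      rw [RefFrobLib.fgerm_sum, map_sum, Finset.smul_sum]
      refine Finset.sum_congr rfl fun i _ => ?_
      rw [RefFrobLib.fgerm_smul, map_smul, smul_smul]
      refine congrArg₂ (· • ·) ?_ ?_
      · rw [map_mul, map_pow]
      · rw [spec_map, RefFrobLib.spec_fgerm]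
  · dsimp only
    rw [hdet, hDx]
    exact (mul_neg _ _).trans (congrArg Neg.neg (Ref1Lib.ord_pow' (X := X) hm0 p).symm)

end RefDetNumLib

end
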